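import Cfsg.Agent.Lib.Unitary.Generation

/-!
Eichler root elements lying in a subgroup of `GU`: closure rules and the criterion for containing
every transvection.
-/

set_option autoImplicit false
set_option linter.unusedSectionVars false

namespace Cfsg.Agent.Lib.PSUTwoGen49

open Matrix Cfsg.Agent.Lib.Unitary

variable {F : Type*} [Field F] [Fintype F] {q n : ℕ} {K : Subgroup (GU n F q)}

/-- All valid Eichler elements with axis `e` and vector `z` lie in `K`. -/
def EK (K : Subgroup (GU n F q)) (e z : Fin n → F) : Prop :=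
  ∀ (A : GU n F q) (d : F), d + d ^ q + hermForm n F q z z = 0 → IsEich e z d A → A ∈ K

/-- The full transvection group at `e` lies in `K`. -/
def Full (K : Subgroup (GU n F q)) (e : Fin n → F) : Prop := EK K e 0

/-- The Eichler element with parameter zero lies in `K`. -/
def EK0 (K : Subgroup (GU n F q)) (e z : Fin n → F) : Prop :=
  ∀ A : GU n F q, IsEich e z 0 A → A ∈ K

theorem eich_axis (hF : Fintype.card F = q ^ 2) {e z : Fin n → F} {d μ : F} {A : GU n F q}
    (hA : IsEich (μ • e) z d A) : IsEich e (μ ^ q • z) (μ ^ q * μ * d) A := fun x => by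
  rw [hA]
  simp only [herm_smul_right, pow_q_q hF]
  ext i; simp; ring

theorem eich_swap (hF : Fintype.card F = q ^ 2) {e z : Fin n → F} {A : GU n F q}
    (hA : IsEich e z 0 A) : IsEich z (-e) 0 A := fun x => by
  rw [hA, herm_neg_right _ _ hF]
  ext i; simp; ring

theorem eich_axis_valid (hF : Fintype.card F = q ^ 2) {z : Fin n → F} {d μ : F}
    (hd : d + d ^ q + hermForm n F q z z = 0) :
    μ ^ q * μ * d + (μ ^ q * μ * d) ^ q + hermForm n F q (μ ^ q • z) (μ ^ q • z) = 0 := by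
  rw [herm_smul_left, herm_smul_right, mul_pow, mul_pow, pow_q_q hF]
  linear_combination (μ ^ q * μ) * hd

theorem EK.of_one (hF : Fintype.card F = q ^ 2) {e z : Fin n → F} (he : hermForm n F q e e = 0)
    (hze : hermForm n F q z e = 0) (hfull : Full K e) {d₀ : F} {A₀ : GU n F q}
    (hd₀ : d₀ + d₀ ^ q + hermForm n F q z z = 0) (hA₀ : IsEich e z d₀ A₀) (hm : A₀ ∈ K) :
    EK K e z := by
  intro A d hd hA
  have hc : (d - d₀) + (d - d₀) ^ q = 0 := by
    rw [sub_pow_q hF]; linear_combination hd - hd₀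
  obtain ⟨B, hB, -⟩ := exists_tv hF he hc
  have h := (hB.eich hF).mul hF hA₀ he (herm_zero_left e) hze
  rw [zero_add, sub_add_cancel, herm_zero_right _ hF, sub_zero] at h
  rw [hA.unique h]
  exact mul_mem (hfull B _ (by rw [herm_zero_left, add_zero]; exact hc) (hB.eich hF)) hm

theorem EK.exists_mem (hF : Fintype.card F = q ^ 2) {e z : Fin n → F} (he : hermForm n F q e e = 0)
    (hze : hermForm n F q z e = 0) (h : EK K e z) :
    ∃ (A : GU n F q) (d : F), d + d ^ q + hermForm n F q z z = 0 ∧ IsEich e z d A ∧ A ∈ K := by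
  obtain ⟨d, hd⟩ := exists_eich_param hF z
  obtain ⟨A, hA, -⟩ := exists_eich hF he hze hd
  exact ⟨A, d, hd, hA, h A d hd hA⟩

theorem EK.add (hF : Fintype.card F = q ^ 2) {e z z' : Fin n → F} (he : hermForm n F q e e = 0)
    (hze : hermForm n F q z e = 0) (hze' : hermForm n F q z' e = 0) (hfull : Full K e)
    (h : EK K e z) (h' : EK K e z') : EK K e (z + z') := by
  obtain ⟨A, d, hd, hA, hAK⟩ := h.exists_mem hF he hze
  obtain ⟨B, d', hd', hB, hBK⟩ := h'.exists_mem hF he hze'
  refine EK.of_one hF he (by rw [herm_add_left, hze, hze', add_zero]) hfull ?_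
    (hA.mul hF hB he hze hze') (mul_mem hAK hBK)
  simp only [sub_pow_q hF, add_pow_q hF, herm_add_left, herm_add_right _ _ _ hF, herm_conj z' z hF]
  linear_combination hd + hd'

theorem EK.conj {e z : Fin n → F} (h : EK K e z) {g : GU n F q} (hg : g ∈ K) :
    EK K (g.1.1 *ᵥ e) (g.1.1 *ᵥ z) := by
  intro A d hd hA
  have hA' := hA.conj g⁻¹
  rw [GU_inv_mulVec, GU_inv_mulVec, inv_inv] at hA'
  rw [GU_herm] at hd
  have := mul_mem (mul_mem hg (h _ d hd hA')) (inv_mem hg)
  rwa [show g * (g⁻¹ * A * g) * g⁻¹ = A by group] at this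

theorem EK0.conj {e z : Fin n → F} (h : EK0 K e z) {g : GU n F q} (hg : g ∈ K) :
    EK0 K (g.1.1 *ᵥ e) (g.1.1 *ᵥ z) := by
  intro A hA
  have hA' := hA.conj g⁻¹
  rw [GU_inv_mulVec, GU_inv_mulVec, inv_inv] at hA'
  have := mul_mem (mul_mem hg (h _ hA')) (inv_mem hg)
  rwa [show g * (g⁻¹ * A * g) * g⁻¹ = A by group] at this

theorem EK.axis (hF : Fintype.card F = q ^ 2) {e z : Fin n → F} {μ : F} (hμ : μ ≠ 0)
    (h : EK K (μ • e) z) : EK K e (μ ^ q • z) := by
  intro A d hd hA
  rw [show e = μ⁻¹ • μ • e by rw [smul_smul, inv_mul_cancel₀ hμ, one_smul]] at hA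
  have hd' := eich_axis_valid (μ := μ⁻¹) hF hd
  rw [smul_smul, ← mul_pow, inv_mul_cancel₀ hμ, one_pow, one_smul] at hd'
  have hA' := eich_axis hF hA
  rw [smul_smul, ← mul_pow, inv_mul_cancel₀ hμ, one_pow, one_smul] at hA'
  exact h A _ hd' hA'

theorem EK0.axis (hF : Fintype.card F = q ^ 2) {e z : Fin n → F} {μ : F} (hμ : μ ≠ 0)
    (h : EK0 K (μ • e) z) : EK0 K e (μ ^ q • z) := by
  intro A hA
  rw [show e = μ⁻¹ • μ • e by rw [smul_smul, inv_mul_cancel₀ hμ, one_smul]] at hA
  have hA' := eich_axis hF hA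
  rw [smul_smul, ← mul_pow, inv_mul_cancel₀ hμ, one_pow, one_smul, mul_zero] at hA'
  exact h A hA'

theorem full_zero (hF : Fintype.card F = q ^ 2) (K : Subgroup (GU n F q)) :
    Full K (0 : Fin n → F) := by
  intro A d _ hA
  rw [show A = 1 from GU_ext fun x => by rw [hA x, GU_one_mulVec]; simp]
  exact one_mem K

theorem Full.smul (hF : Fintype.card F = q ^ 2) {v : Fin n → F} (h : Full K v) (s : F) :
    Full K (s • v) := by
  rcases eq_or_ne s 0 with rfl | hs
  · rw [zero_smul]; exact full_zero hF K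
  · have h' : EK K (s⁻¹ • s • v) 0 := by
      rw [smul_smul, inv_mul_cancel₀ hs, one_smul]; exact h
    have := h'.axis hF (inv_ne_zero hs)
    rwa [smul_zero] at this

theorem Full.act {v : Fin n → F} (h : Full K v) {g : GU n F q} (hg : g ∈ K) :
    Full K (g.1.1 *ᵥ v) := by
  have := EK.conj h hg
  rwa [Matrix.mulVec_zero] at this

theorem Full.act_iff {v : Fin n → F} {g : GU n F q} (hg : g ∈ K) :
    Full K (g.1.1 *ᵥ v) ↔ Full K v :=
  ⟨fun h => by
    have := h.act (inv_mem hg)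
    rwa [GU_inv_mulVec] at this, fun h => h.act hg⟩

theorem sub_pow_surj (hF : Fintype.card F = q ^ 2) {c : F} (hc : c + c ^ q = 0) :
    ∃ x, x - x ^ q = c := by
  obtain ⟨θ, hθ0, hθ⟩ := exists_trace_zero_ne_zero hF
  obtain ⟨a, ha⟩ := trace_surj hF (y := c / θ) (by
    rw [div_pow, show c ^ q = -c by linear_combination hc,
      show θ ^ q = -θ by linear_combination hθ, neg_div_neg_eq])
  refine ⟨θ * a, ?_⟩
  rw [mul_pow, show θ ^ q = -θ by linear_combination hθ]
  linear_combination (mul_div_cancel₀ c hθ0) + θ * ha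

/-- Two pairing families of Eichler elements give the transvection group. -/
theorem full_of_pair (hF : Fintype.card F = q ^ 2) {e z₁ z₂ : Fin n → F}
    (he : hermForm n F q e e = 0) (h1 : hermForm n F q z₁ e = 0) (h2 : hermForm n F q z₂ e = 0)
    (hall : ∀ a : F, ∃ A ∈ K, ∃ d, IsEich e (a • z₁) d A)
    {B : GU n F q} (hBK : B ∈ K) {d₂ : F} (hB : IsEich e z₂ d₂ B)
    (hs : hermForm n F q z₁ z₂ ≠ 0) : Full K e := by
  intro C c hc hC
  rw [herm_zero_left, add_zero] at hc
  obtain ⟨x, hx⟩ := sub_pow_surj hF hc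
  set a := x / hermForm n F q z₁ z₂
  obtain ⟨A, hAK, d, hA⟩ := hall a
  have ha1 : hermForm n F q (a • z₁) e = 0 := by rw [herm_smul_left, h1, mul_zero]
  have hsum : hermForm n F q (z₂ + a • z₁) e = 0 := by rw [herm_add_left, h2, ha1, add_zero]
  have e1 := hA.mul hF hB he ha1 h2
  have e2 := hC.mul hF (hB.mul hF hA he h2 ha1) he (herm_zero_left e) hsum
  have hz : hermForm n F q (a • z₁) z₂ = x := by
    rw [herm_smul_left, div_mul_cancel₀ _ hs]
  rw [zero_add, herm_zero_right _ hF, sub_zero, add_comm z₂, hz] at e2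
  rw [show hermForm n F q z₂ (a • z₁) = x ^ q by rw [← hz, herm_conj _ _ hF]] at e1
  rw [show c + (d₂ + d - x) = d + d₂ - x ^ q by linear_combination -hx] at e2
  have := e2.unique e1
  rw [show C = A * B * (B * A)⁻¹ by rw [← this]; group]
  exact mul_mem (mul_mem hAK hBK) (inv_mem (mul_mem hBK hAK))

/-- Everything outside the perp of the axis of a full Eichler group. -/
theorem full_of_nonorth (hF : Fintype.card F = q ^ 2) {e f : Fin n → F} (h : Hyp q e f)
    (hEK : ∀ z, hermForm n F q z e = 0 → hermForm n F q z f = 0 → EK K e z) (hff : Full K f)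
    {x : Fin n → F} (hx0 : hermForm n F q x x = 0) (hxe : hermForm n F q x e ≠ 0) : Full K x := by
  set s := hermForm n F q x e
  set y := s⁻¹ • x with hy
  set z := y - hermForm n F q y f • e - hermForm n F q y e • f with hz
  obtain ⟨hze, hzf⟩ : hermForm n F q z e = 0 ∧ hermForm n F q z f = 0 := h.rest_perp hF y
  have hye : hermForm n F q y e = 1 := by rw [hy, herm_smul_left, inv_mul_cancel₀ hxe]
  set d := hermForm n F q y f
  have hyd : y = f + z + d • e := by rw [hz, hye, one_smul]; abel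
  have hd : d + d ^ q + hermForm n F q z z = 0 := by
    have hyy : hermForm n F q y y = 0 := by rw [hy, herm_smul_left, herm_smul_right, hx0]; ring
    rw [hyd] at hyy
    simp only [herm_add_left, herm_add_right _ _ _ hF, herm_smul_left, herm_smul_right, h.1, h.2.1,
      h.2.2, h.symm' hF, hze, hzf, herm_eq_zero_symm hF hze, herm_eq_zero_symm hF hzf] at hyy
    linear_combination hyy
  obtain ⟨A, hA, -⟩ := exists_eich hF h.1 hze hd
  have hAK : A ∈ K := hEK z hze hzf A d hd hA
  have hAf : A.1.1 *ᵥ f = y := by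
    rw [hA, h.symm' hF, one_smul, mul_one, herm_eq_zero_symm hF hzf, sub_zero, hyd]
  have := (hff.act hAK).smul hF s
  rwa [hAf, hy, smul_smul, mul_inv_cancel₀ hxe, one_smul] at this

/-- The criterion. -/
theorem tgroup_le (hF : Fintype.card F = q ^ 2) {e f : Fin n → F} (h : Hyp q e f)
    (hEK : ∀ z, hermForm n F q z e = 0 → hermForm n F q z f = 0 → EK K e z)
    (hEK' : ∀ z, hermForm n F q z e = 0 → hermForm n F q z f = 0 → EK K f z) :
    TGroup F q n ≤ K := by
  have hfe : Full K e := hEK 0 (herm_zero_left e) (herm_zero_left f)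
  have hff : Full K f := hEK' 0 (herm_zero_left e) (herm_zero_left f)
  have h' : Hyp q f e := h.swap hF
  have hf' : ∀ z, hermForm n F q z f = 0 → hermForm n F q z e = 0 → EK K f z :=
    fun z a b => hEK' z b a
  have key : ∀ x, hermForm n F q x x = 0 → Full K x := by
    intro x hxx
    rcases eq_or_ne x 0 with rfl | hx0
    · exact full_zero hF K
    by_cases hxe : hermForm n F q x e = 0
    swap
    · exact full_of_nonorth hF h hEK hff hxx hxe
    by_cases hxf : hermForm n F q x f = 0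
    swap
    · exact full_of_nonorth hF h' hf' hfe hxx hxf
    obtain ⟨y, hy⟩ : ∃ y, hermForm n F q x y ≠ 0 := by
      by_contra hcon
      push Not at hcon
      exact hx0 (herm_nondeg_left hF hcon)
    set z := y - hermForm n F q y f • e - hermForm n F q y e • f with hz
    obtain ⟨hze, hzf⟩ : hermForm n F q z e = 0 ∧ hermForm n F q z f = 0 := h.rest_perp hF y
    have hxz : hermForm n F q x z = hermForm n F q x y := by
      rw [hz, herm_sub_right _ _ _ hF, herm_sub_right _ _ _ hF, herm_smul_right, herm_smul_right,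
        hxe, hxf, mul_zero, mul_zero, sub_zero, sub_zero]
    obtain ⟨d, hd⟩ := exists_eich_param hF z
    obtain ⟨A, hA, -⟩ := exists_eich hF h.1 hze hd
    have hAK : A ∈ K := hEK z hze hzf A d hd hA
    rw [← Full.act_iff hAK]
    refine full_of_nonorth hF h' hf' hfe (by rw [GU_herm, hxx]) ?_
    rw [hA, hxe, zero_smul, add_zero, mul_zero, zero_sub, herm_add_left, herm_smul_left, hxf,
      h.2.2, zero_add, mul_one, hxz]
    exact neg_ne_zero.2 hy
  refine (Subgroup.closure_le _).2 ?_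
  rintro A ⟨v, c, hv, hc, hA⟩
  exact key v hv A c (by rw [herm_zero_left, add_zero]; exact hc) (hA.eich hF)

/-! ### Parameters -/

/-- One non-trivial element and a generating multiplier give all parameters. -/
theorem all_param {G : Type*} [Group G] (K : Subgroup G) (Q : F → G → Prop) (hone : Q 0 1)
    (hmul : ∀ a b A B, Q a A → Q b B → Q (a + b) (A * B)) (hinv : ∀ a A, Q a A → Q (-a) A⁻¹)
    {h h' x : G} {χ χ' : F} (hh : h ∈ K) (hconj : ∀ a A, Q a A → Q (χ * a) (h * A * h⁻¹))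
    (hconj' : ∀ a A, Q a A → Q (χ' * a) (h' * A * h'⁻¹)) (hc : Commute h h') (hx : Q 1 x)
    (hy : x * h' * x⁻¹ ∈ K) (h1 : χ ≠ 1) (h2 : χ' ≠ 1)
    (hgen : ∀ A : Subring F, χ ∈ A → A = ⊤) : ∀ a, ∃ A ∈ K, Q a A := by
  let S : AddSubgroup F :=
    { carrier := {a | ∃ A ∈ K, Q a A}
      zero_mem' := ⟨1, one_mem K, hone⟩
      add_mem' := by
        rintro a b ⟨A, hA, hA'⟩ ⟨B, hB, hB'⟩
        exact ⟨A * B, mul_mem hA hB, hmul _ _ _ _ hA' hB'⟩
      neg_mem' := by
        rintro a ⟨A, hA, hA'⟩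
        exact ⟨A⁻¹, inv_mem hA, hinv _ _ hA'⟩ }
  let R : Subring F :=
    { carrier := {c | ∀ a ∈ S, c * a ∈ S}
      mul_mem' := fun {a c} ha hc x hx => by rw [mul_assoc]; exact ha _ (hc x hx)
      one_mem' := fun x hx => by rwa [one_mul]
      add_mem' := fun {a c} ha hc x hx => by rw [add_mul]; exact add_mem (ha x hx) (hc x hx)
      zero_mem' := fun x _ => by rw [zero_mul]; exact zero_mem S
      neg_mem' := fun {a} ha x hx => by rw [neg_mul]; exact neg_mem (ha x hx) }
  have hR : R = ⊤ := hgen R (by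
    rintro a ⟨A, hA, hA'⟩
    exact ⟨h * A * h⁻¹, mul_mem (mul_mem hh hA) (inv_mem hh), hconj a A hA'⟩)
  have h0 : (1 - χ) * (1 - χ') ∈ S := by
    refine ⟨x * h' * x⁻¹ * h * (x * h' * x⁻¹)⁻¹ * h⁻¹,
      mul_mem (mul_mem (mul_mem hy hh) (inv_mem hy)) (inv_mem hh), ?_⟩
    have q1 : Q (1 + χ' * (-1 + χ * 1) + -(χ * 1))
        (x * (h' * (x⁻¹ * (h * x * h⁻¹)) * h'⁻¹) * (h * x * h⁻¹)⁻¹) :=
      hmul _ _ _ _ (hmul _ _ _ _ hx (hconj' _ _ (hmul _ _ _ _ (hinv _ _ hx) (hconj _ _ hx))))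
        (hinv _ _ (hconj _ _ hx))
    have e2 : h⁻¹ * h'⁻¹ = h'⁻¹ * h⁻¹ := hc.inv_inv.eq
    convert q1 using 1
    · ring
    · calc x * h' * x⁻¹ * h * (x * h' * x⁻¹)⁻¹ * h⁻¹
          = x * h' * x⁻¹ * h * x * (h'⁻¹ * h⁻¹) * h * x⁻¹ * h⁻¹ := by group
        _ = x * h' * x⁻¹ * h * x * (h⁻¹ * h'⁻¹) * h * x⁻¹ * h⁻¹ := by rw [e2]
        _ = _ := by group
  have hne : (1 - χ) * (1 - χ') ≠ 0 :=
    mul_ne_zero (sub_ne_zero.2 (Ne.symm h1)) (sub_ne_zero.2 (Ne.symm h2))
  intro a
  have := (hR ▸ Subring.mem_top (a / ((1 - χ) * (1 - χ'))) :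
    a / ((1 - χ) * (1 - χ')) ∈ R) _ h0
  rwa [div_mul_cancel₀ _ hne] at this

end Cfsg.Agent.Lib.PSUTwoGen49
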