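import Cfsg.Agent.Lib.PSUTwoGen49.Eich

/-!
A cyclically indexed hyperbolic frame of the standard Hermitian space, its shift and its torus.
-/

set_option autoImplicit false
set_option linter.unusedSectionVars false

namespace Cfsg.Agent.Lib.PSUTwoGen49

open Matrix Cfsg.Agent.Lib.Unitary

variable {F : Type*} [Field F] [Fintype F] {q n m : ℕ}

/-- `v k` and `v (k + m)` are hyperbolic pairs; `g` is the anisotropic rest (zero for even `n`). -/
structure Frame (n : ℕ) (F : Type*) [Field F] [Fintype F] (q m : ℕ) where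
  v : ℕ → Fin n → F
  g : Fin n → F
  per : ∀ k, v (k % (2 * m)) = v k
  gram : ∀ i j, hermForm n F q (v i) (v j) = if (i + m) % (2 * m) = j % (2 * m) then 1 else 0
  gv : ∀ i, hermForm n F q g (v i) = 0
  expand : ∀ x, x = (∑ k ∈ Finset.range (2 * m), hermForm n F q x (v (k + m)) • v k) +
    hermForm n F q x g • g

namespace Frame

variable (Φ : Frame n F q m)

theorem v_congr {i j : ℕ} (h : i % (2 * m) = j % (2 * m)) : Φ.v i = Φ.v j := by
  rw [← Φ.per i, h, Φ.per]

theorem per_add (k : ℕ) : Φ.v (k + 2 * m) = Φ.v k := Φ.v_congr (Nat.add_mod_right _ _)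

theorem hv_one (k : ℕ) : hermForm n F q (Φ.v k) (Φ.v (k + m)) = 1 := by
  rw [Φ.gram, if_pos rfl]

theorem hv_zero {i j : ℕ} (h : (i + m) % (2 * m) ≠ j % (2 * m)) :
    hermForm n F q (Φ.v i) (Φ.v j) = 0 := by
  rw [Φ.gram, if_neg h]

theorem iso (hm : 1 ≤ m) (k : ℕ) : hermForm n F q (Φ.v k) (Φ.v k) = 0 := by
  refine Φ.hv_zero fun h => ?_
  have h1 : (m : ℤ) % (2 * m) = 0 := by
    have := (Nat.ModEq.add_left_cancel' k (show k + m ≡ k + 0 [MOD 2 * m] from h))
    have e : m % (2 * m) = 0 % (2 * m) := this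
    rw [Nat.mod_eq_of_lt (by omega), Nat.zero_mod] at e
    omega
  rw [Int.emod_eq_of_lt (by omega) (by omega)] at h1
  omega

theorem hyp (hm : 1 ≤ m) (k : ℕ) : Hyp q (Φ.v k) (Φ.v (k + m)) :=
  ⟨Φ.iso hm k, Φ.iso hm _, Φ.hv_one k⟩

theorem vg (hF : Fintype.card F = q ^ 2) (i : ℕ) : hermForm n F q (Φ.v i) Φ.g = 0 :=
  herm_eq_zero_symm hF (Φ.gv i)

theorem ext_GU {A B : GU n F q} (hv : ∀ k, A.1.1 *ᵥ Φ.v k = B.1.1 *ᵥ Φ.v k)
    (hg : A.1.1 *ᵥ Φ.g = B.1.1 *ᵥ Φ.g) : A = B := by
  refine GU_ext fun x => ?_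
  rw [Φ.expand x]
  simp only [Matrix.mulVec_add, Matrix.mulVec_sum, Matrix.mulVec_smul, hv, hg]

/-- Diagonal elements. -/
def Diag (A : GU n F q) (C : ℕ → F) (γ : F) : Prop :=
  (∀ k, A.1.1 *ᵥ Φ.v k = C k • Φ.v k) ∧ A.1.1 *ᵥ Φ.g = γ • Φ.g

theorem Diag.commute {A B : GU n F q} {C D : ℕ → F} {γ δ : F} (hA : Φ.Diag A C γ)
    (hB : Φ.Diag B D δ) : Commute A B :=
  Φ.ext_GU (fun k => by
      rw [GU_mul_mulVec, GU_mul_mulVec, hB.1, Matrix.mulVec_smul, hA.1, Matrix.mulVec_smul, hB.1,
        smul_comm])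
    (by rw [GU_mul_mulVec, GU_mul_mulVec, hB.2, Matrix.mulVec_smul, hA.2, Matrix.mulVec_smul, hB.2,
        smul_comm])

theorem Diag.mul {A B : GU n F q} {C D : ℕ → F} {γ δ : F} (hA : Φ.Diag A C γ)
    (hB : Φ.Diag B D δ) : Φ.Diag (A * B) (fun k => D k * C k) (δ * γ) :=
  ⟨fun k => by rw [GU_mul_mulVec, hB.1, Matrix.mulVec_smul, hA.1, smul_smul],
    by rw [GU_mul_mulVec, hB.2, Matrix.mulVec_smul, hA.2, smul_smul]⟩

/-- The scaling of the pair through `v p`. -/
theorem exists_pair (hF : Fintype.card F = q ^ 2) (hm : 1 ≤ m) (p : ℕ) {l : F} (hl : l ≠ 0) :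
    ∃ A : GU n F q, A.1.1.det = l * (l ^ q)⁻¹ ∧ Φ.Diag A
      (fun k => if k % (2 * m) = p % (2 * m) then l
        else if k % (2 * m) = (p + m) % (2 * m) then (l ^ q)⁻¹ else 1) 1 := by
  obtain ⟨A, hd, he, hf, hfix⟩ := exists_GU_hyp_scale hF (Φ.hyp hm p) hl
  refine ⟨A, hd, fun k => ?_, ?_⟩
  · dsimp only
    split_ifs with h1 h2
    · rw [Φ.v_congr h1, he]
    · rw [Φ.v_congr h2, hf]
    · rw [one_smul]
      refine hfix _ (Φ.hv_zero fun h => h2 ?_) (Φ.hv_zero fun h => h1 ?_)
      · have h' : k + m + m ≡ p + m [MOD 2 * m] := Nat.ModEq.add_right m h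
        have e : k + m + m = k + 2 * m := by ring
        rw [e] at h'
        have : (k + 2 * m) % (2 * m) = (p + m) % (2 * m) := h'
        rwa [Nat.add_mod_right] at this
      · exact Nat.ModEq.add_right_cancel' m h
  · rw [one_smul]
    exact hfix _ (Φ.gv _) (Φ.gv _)

theorem linearIndependent (hF : Fintype.card F = q ^ 2) (hn : n = 2 * m + 1 → hermForm n F q Φ.g Φ.g = 1) (hn' : n ≤ 2 * m + 1) :
    LinearIndependent F (Sum.elim (fun k : Fin (2 * m) => Φ.v k) (fun _ : Fin (n - 2 * m) => Φ.g)) := by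
  classical
  rw [Fintype.linearIndependent_iff]
  intro c hc
  rw [Fintype.sum_sum_type] at hc
  simp only [Sum.elim_inl, Sum.elim_inr] at hc
  rintro (k | k)
  · have := congrArg (fun x => hermForm n F q x (Φ.v (k.val + m))) hc
    simp only [herm_zero_left, herm_add_left, herm_sum_left, herm_smul_left, Φ.gv, mul_zero,
      Finset.sum_const_zero, add_zero] at this
    rw [Finset.sum_eq_single k (fun j _ hj => ?_) (fun h => absurd (Finset.mem_univ k) h),
      Φ.hv_one, mul_one] at this
    · exact this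
    · rw [Φ.hv_zero, mul_zero]
      intro h
      have h' : j.val % (2 * m) = k.val % (2 * m) := Nat.ModEq.add_right_cancel' m h
      rw [Nat.mod_eq_of_lt j.isLt, Nat.mod_eq_of_lt k.isLt] at h'
      exact hj (Fin.ext h')
  · have hk := k.isLt
    have hgg := hn (by omega)
    have h0 := congrArg (fun x => hermForm n F q x Φ.g) hc
    simp only [herm_zero_left, herm_add_left, herm_sum_left, herm_smul_left, Φ.vg hF, hgg, mul_zero,
      mul_one, Finset.sum_const_zero, zero_add] at h0
    haveI : Subsingleton (Fin (n - 2 * m)) := ⟨fun a b => Fin.ext (by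
      have := a.isLt; have := b.isLt; omega)⟩
    rwa [Fintype.sum_subsingleton _ k] at h0

/-- The shift. -/
theorem exists_shift (hF : Fintype.card F = q ^ 2)
    (hn : n = 2 * m + 1 → hermForm n F q Φ.g Φ.g = 1) (hn1 : 2 * m ≤ n) (hn' : n ≤ 2 * m + 1) :
    ∃ A : GU n F q, (∀ k, A.1.1 *ᵥ Φ.v k = Φ.v (k + 1)) ∧ A.1.1 *ᵥ Φ.g = Φ.g := by
  classical
  obtain ⟨A, hA⟩ := exists_GU_of_gram hF (Φ.linearIndependent hF hn hn')
    (c := Sum.elim (fun k : Fin (2 * m) => Φ.v (k.val + 1)) (fun _ : Fin (n - 2 * m) => Φ.g))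
    (by simp; omega) (by
      rintro (i | i) (j | j)
      · simp only [Sum.elim_inl, Φ.gram]
        refine if_congr ?_ rfl rfl
        rw [add_right_comm]
        exact ⟨fun h => Nat.ModEq.add_right 1 h, fun h => Nat.ModEq.add_right_cancel' 1 h⟩
      · simp [Φ.vg hF]
      · simp [Φ.gv]
      · simp)
  refine ⟨A, fun k => ?_, ?_⟩
  · rcases Nat.eq_zero_or_pos m with rfl | hm
    · have hz : Φ.v k = 0 := by
        refine herm_nondeg_left hF fun w => ?_
        conv_lhs => rw [Φ.expand w]
        simp [herm_smul_right, Φ.vg hF]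
      have hz' : Φ.v (k + 1) = 0 := by
        refine herm_nondeg_left hF fun w => ?_
        conv_lhs => rw [Φ.expand w]
        simp [herm_smul_right, Φ.vg hF]
      rw [hz, hz', Matrix.mulVec_zero]
    · have h := hA (Sum.inl ⟨k % (2 * m), Nat.mod_lt _ (by omega)⟩)
      simp only [Sum.elim_inl, Φ.per] at h
      rw [h]
      exact Φ.v_congr (Nat.mod_add_mod _ _ _)
  · by_cases h : n = 2 * m + 1
    · exact hA (Sum.inr ⟨0, by omega⟩)
    · have hg : Φ.g = 0 := by
        have hli := (Φ.linearIndependent hF hn hn').span_eq_top_of_card_eq_finrank' (by simp; omega)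
        refine herm_nondeg_left hF fun w => ?_
        have hw : w ∈ Submodule.span F _ := hli ▸ Submodule.mem_top
        obtain ⟨c, rfl⟩ := (Submodule.mem_span_range_iff_exists_fun F).1 hw
        rw [herm_sum_right _ hF]
        refine Finset.sum_eq_zero fun i _ => ?_
        rcases i with i | i
        · simp [herm_smul_right, Φ.gv]
        · exact absurd i.isLt (by omega)
      rw [hg, Matrix.mulVec_zero]

end Frame

/-! ### Existence -/

/-- The `i`-th basis vector, zero out of range. -/
def dd (n : ℕ) (F : Type*) [Field F] (i : ℕ) : Fin n → F := fun x => if x.val = i then 1 else 0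

theorem herm_dd_left (hF : Fintype.card F = q ^ 2) (i : ℕ) (x : Fin n → F) :
    hermForm n F q x (dd n F i) = if h : i < n then x ⟨i, h⟩ else 0 := by
  simp only [hermForm, dd]
  split_ifs with h
  · rw [Finset.sum_eq_single (⟨i, h⟩ : Fin n) (fun j _ hj => ?_) (fun h' => absurd (Finset.mem_univ _) h')]
    · simp
    · rw [if_neg (fun e => hj (Fin.ext e)), zero_pow (q_ne_zero hF), mul_zero]
  · refine Finset.sum_eq_zero fun j _ => ?_
    rw [if_neg (fun e => h (by have := j.isLt; omega)), zero_pow (q_ne_zero hF), mul_zero]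

theorem herm_dd (hF : Fintype.card F = q ^ 2) (i j : ℕ) :
    hermForm n F q (dd n F i) (dd n F j) = if i = j ∧ j < n then 1 else 0 := by
  rw [herm_dd_left hF]
  by_cases h : j < n
  · rw [dif_pos h]
    simp only [dd, h, and_true]
    exact if_congr eq_comm rfl rfl
  · rw [dif_neg h, if_neg (fun e => h e.2)]

theorem exists_coeffs (hF : Fintype.card F = q ^ 2) :
    ∃ s t α : F, 1 + s * s ^ q = 0 ∧ 1 + t * t ^ q = 0 ∧ α ^ q + s * (α * t) ^ q = 1 ∧ s ≠ t := by
  obtain ⟨s, hs⟩ := norm_surj hF (y := (-1 : F)) (by rw [neg_pow_q hF, one_pow])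
  obtain ⟨μ, hμ0, hμ⟩ : ∃ μ : F, μ ≠ 0 ∧ μ ^ q ≠ μ := by
    obtain ⟨θ, hθ0, -⟩ := exists_trace_zero_ne_zero hF
    by_contra hcon
    push Not at hcon
    have hall : ∀ x : F, x ^ q = x := fun x => by
      rcases eq_or_ne x 0 with rfl | hx
      · exact zero_pow (q_ne_zero hF)
      · exact hcon x hx
    have h := card_fixed hF
    have e : Nat.card {x : F // x ^ q = x} = Nat.card F :=
      Nat.card_congr (Equiv.subtypeUnivEquiv hall)
    rw [e, Nat.card_eq_fintype_card, hF] at h
    have := one_lt_q hF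
    nlinarith
  have hs0 : s ≠ 0 := by
    rintro rfl
    rw [zero_mul] at hs
    exact (neg_ne_zero.2 one_ne_zero) hs.symm
  have hs' : 1 + s * s ^ q = 0 := by
    rw [hs]; ring
  set t := s * (μ ^ q / μ)
  have hζ : μ ^ q / μ * (μ ^ q / μ) ^ q = 1 := by
    rw [div_pow, pow_q_q hF]
    field_simp
  have ht : 1 + t * t ^ q = 0 := by
    rw [mul_pow]
    linear_combination hs' + (s * s ^ q) * hζ
  have hst : s ≠ t := by
    intro e
    have : μ ^ q / μ = 1 := mul_left_cancel₀ hs0 (by rw [mul_one]; exact e.symm)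
    exact hμ ((div_eq_one_iff_eq hμ0).1 this)
  have hne : 1 + s * t ^ q ≠ 0 := by
    intro e
    have h2 : (s - t) * t ^ q = 0 := by linear_combination e - ht
    rcases mul_eq_zero.1 h2 with h | h
    · exact hst (sub_eq_zero.1 h)
    · rw [h, mul_zero, add_zero] at ht; exact one_ne_zero ht
  refine ⟨s, t, ((1 + s * t ^ q)⁻¹) ^ q, hs', ht, ?_, hst⟩
  rw [mul_pow (((1 + s * t ^ q)⁻¹) ^ q) t q, pow_q_q hF]
  linear_combination mul_inv_cancel₀ hne

theorem exists_frame (hF : Fintype.card F = q ^ 2) (hm : 1 ≤ m) (hn1 : 2 * m ≤ n)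
    (hn' : n ≤ 2 * m + 1) :
    ∃ Φ : Frame n F q m, (n = 2 * m + 1 → hermForm n F q Φ.g Φ.g = 1) ∧ (n = 2 * m → Φ.g = 0) := by
  classical
  obtain ⟨s, t, α, hs, ht, hα, hst⟩ := exists_coeffs hF
  let v : ℕ → Fin n → F := fun k =>
    if k % (2 * m) < m then dd n F (2 * (k % (2 * m))) + s • dd n F (2 * (k % (2 * m)) + 1)
    else α • dd n F (2 * (k % (2 * m) - m)) + (α * t) • dd n F (2 * (k % (2 * m) - m) + 1)
  let g : Fin n → F := dd n F (2 * m)
  have hgram : ∀ i j, i < 2 * m → j < 2 * m →
      hermForm n F q (v i) (v j) = if (i + m) % (2 * m) = j then 1 else 0 := by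
    intro i j hi hj
    have e1 : i % (2 * m) = i := Nat.mod_eq_of_lt hi
    have e2 : j % (2 * m) = j := Nat.mod_eq_of_lt hj
    have hM : (i + m) % (2 * m) = if i < m then i + m else i - m := by
      split_ifs with h
      · exact Nat.mod_eq_of_lt (by omega)
      · rw [Nat.mod_eq_sub_mod (by omega), Nat.mod_eq_of_lt (by omega)]; omega
    rw [hM]
    simp only [v, e1, e2]
    split_ifs with h1 h2 h3 h4 <;>
      simp only [herm_add_left, herm_add_right _ _ _ hF, herm_smul_left, herm_smul_right, herm_dd hF]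
    all_goals
      split_ifs <;> first
        | omega
        | ring1
        | linear_combination hs
        | linear_combination (α * α ^ q) * ht + α * 0
        | linear_combination hα
        | (rw [mul_pow]; linear_combination (α * α ^ q) * ht)
        | (have h' := congrArg (· ^ q) hα
           simp only [add_pow_q hF, mul_pow, pow_q_q hF, one_pow] at h' ⊢
           linear_combination h')
  have hper : ∀ k, v (k % (2 * m)) = v k := fun k => by simp only [v, Nat.mod_mod]
  refine ⟨⟨v, g, hper, fun i j => ?_, fun i => ?_, fun x => ?_⟩, fun h => ?_, fun h => ?_⟩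
  · rw [← hper i, ← hper j, hgram _ _ (Nat.mod_lt _ (by omega)) (Nat.mod_lt _ (by omega)),
      Nat.mod_add_mod]
  · have := Nat.mod_lt i (show 0 < 2 * m by omega)
    simp only [v, g]
    split_ifs <;>
      simp only [herm_add_right _ _ _ hF, herm_smul_right, herm_dd hF] <;>
      (split_ifs <;> first | omega | ring1)
  · have hg2 : ∀ k, k < 2 * m → hermForm n F q g (v k) = 0 := fun k hk => by
      simp only [v, g, Nat.mod_eq_of_lt hk]
      split_ifs <;>
        simp only [herm_add_right _ _ _ hF, herm_smul_right, herm_dd hF] <;>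
        (split_ifs <;> first | omega | ring1)
    rw [← sub_eq_zero]
    set D := x - ((∑ k ∈ Finset.range (2 * m), hermForm n F q x (v (k + m)) • v k) +
      hermForm n F q x g • g) with hD
    have hgg : hermForm n F q g g = if 2 * m < n then 1 else 0 := by
      simp only [g, herm_dd hF, true_and]
    have hDv : ∀ j, j < 2 * m → hermForm n F q D (v j) = 0 := by
      intro j hj
      simp only [hD, herm_sub_left, herm_add_left, herm_sum_left, herm_smul_left, hg2 j hj, mul_zero,
        add_zero]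
      have hm' : ∀ a, (a + m) % (2 * m) < 2 * m := fun a => Nat.mod_lt _ (by omega)
      rw [Finset.sum_eq_single ((j + m) % (2 * m)) (fun k hk hne => ?_)
        (fun h => absurd (Finset.mem_range.2 (hm' j)) h), hgram _ _ (hm' j) hj]
      · have e : ((j + m) % (2 * m) + m) % (2 * m) = j := by
          rw [Nat.mod_add_mod, show j + m + m = j + 2 * m by ring, Nat.add_mod_right, Nat.mod_eq_of_lt hj]
        rw [if_pos e, mul_one, ← hper ((j + m) % (2 * m) + m), e, sub_self]
      · have hk' := Finset.mem_range.1 hk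
        rw [hgram k j hk' hj, if_neg, mul_zero]
        intro e
        apply hne
        rw [← e, Nat.mod_add_mod, show k + m + m = k + 2 * m by ring, Nat.add_mod_right,
          Nat.mod_eq_of_lt hk']
    have hDg : hermForm n F q D g = 0 := by
      simp only [hD, herm_sub_left, herm_add_left, herm_sum_left, herm_smul_left]
      rw [Finset.sum_eq_zero (fun k hk => by
        rw [herm_eq_zero_symm hF (hg2 k (Finset.mem_range.1 hk)), mul_zero]), hgg]
      split_ifs with h
      · ring
      · have : g = 0 := funext fun y => if_neg (by have := y.isLt; omega)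
        rw [this, herm_zero_right _ hF]; ring
    funext y
    have hy := y.isLt
    by_cases hy2 : y.val = 2 * m
    · simp only [g, herm_dd_left hF] at hDg
      rw [dif_pos (by omega)] at hDg
      rw [show y = ⟨2 * m, by omega⟩ from Fin.ext hy2]
      exact hDg
    · have hlt : y.val < 2 * m := by omega
      set i := y.val / 2
      have hi : i < m := by omega
      have h1 := hDv i (by omega)
      have h2 := hDv (i + m) (by omega)
      simp only [v, Nat.mod_eq_of_lt (show i < 2 * m by omega), if_pos hi,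
        Nat.mod_eq_of_lt (show i + m < 2 * m by omega), if_neg (show ¬ i + m < m by omega),
        Nat.add_sub_cancel, herm_add_right _ _ _ hF, herm_smul_right, herm_dd_left hF] at h1 h2
      rw [dif_pos (show 2 * i < n by omega), dif_pos (show 2 * i + 1 < n by omega)] at h1 h2
      have hα0 : α ≠ 0 := by
        rintro rfl
        simp [zero_pow (q_ne_zero hF)] at hα
      have h2' : D ⟨2 * i, by omega⟩ + t ^ q * D ⟨2 * i + 1, by omega⟩ = 0 := by
        refine (mul_eq_zero.1 (?_ : α ^ q * _ = 0)).resolve_left (pow_ne_zero q hα0)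
        rw [mul_pow] at h2
        linear_combination h2
      have hd1 : D ⟨2 * i + 1, by omega⟩ = 0 := by
        refine (mul_eq_zero.1 (?_ : (s ^ q - t ^ q) * _ = 0)).resolve_left
          (sub_ne_zero.2 fun e => hst (pow_q_injective hF e))
        linear_combination h1 - h2'
      rcases Nat.even_or_odd y.val with ⟨r, hr⟩ | ⟨r, hr⟩
      · rw [show y = ⟨2 * i, by omega⟩ from Fin.ext (by simp only [i]; omega)]
        rw [hd1, mul_zero, add_zero] at h1
        exact h1
      · rw [show y = ⟨2 * i + 1, by omega⟩ from Fin.ext (by simp only [i]; omega)]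
        exact hd1
  · simp only [g, herm_dd hF, true_and]
    exact if_pos (by omega)
  · exact funext fun y => if_neg (by have := y.isLt; omega)

end Cfsg.Agent.Lib.PSUTwoGen49
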