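import Cfsg.Agent.Lib.PSUTwoGen49.Main
import Cfsg.Agent.Lib.Unitary.Simple

/-!
The two generators of `SU_n(q)`.
-/

set_option autoImplicit false
set_option linter.unusedSectionVars false

namespace Cfsg.Agent.Lib.PSUTwoGen49

open Matrix Cfsg.Agent.Lib.Unitary

variable {F : Type*} [Field F] [Fintype F] {q n m : ℕ}

theorem det_mul_GU (A B : GU n F q) : (A * B).1.1.det = A.1.1.det * B.1.1.det := by
  simp [Matrix.det_mul]

/-- From generators in `GU` to generators of `SU`. -/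
theorem finish (hF : Fintype.card F = q ^ 2) (hn : 3 ≤ n) (h32 : ¬ (n = 3 ∧ q = 2))
    {A B : GU n F q} (hA : A.1.1.det = 1) (hB : B.1.1.det = 1)
    (h : ∀ K : Subgroup (GU n F q), A ∈ K → B ∈ K → TGroup F q n ≤ K) :
    ∃ a b : SU n F q, Subgroup.closure ({a, b} : Set (SU n F q)) = ⊤ := by
  obtain ⟨X, hX⟩ : A ∈ (suToGU n F q).range := by
    rw [suToGU_range]; exact MonoidHom.mem_ker.2 (Units.ext hA)
  obtain ⟨Y, hY⟩ : B ∈ (suToGU n F q).range := by
    rw [suToGU_range]; exact MonoidHom.mem_ker.2 (Units.ext hB)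
  refine ⟨X, Y, ?_⟩
  have hle := h ((Subgroup.closure ({X, Y} : Set (SU n F q))).map (suToGU n F q))
    (hX ▸ Subgroup.mem_map_of_mem _ (Subgroup.subset_closure (by simp)))
    (hY ▸ Subgroup.mem_map_of_mem _ (Subgroup.subset_closure (by simp)))
  rw [eq_top_iff, ← suTransvections_closure hF hn h32, Subgroup.closure_le]
  intro S hS
  obtain ⟨S', hS', e⟩ := hle (Subgroup.subset_closure hS)
  rw [← suToGU_injective e]
  exact hS'

/-- The shift with determinant one and its effect on a diagonal element. -/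
theorem exists_w (hF : Fintype.card F = q ^ 2) (Φ : Frame n F q m) (hm : 1 ≤ m)
    (hg : n = 2 * m + 1 → hermForm n F q Φ.g Φ.g = 1) (hn1 : 2 * m ≤ n) (hn' : n ≤ 2 * m + 1) :
    ∃ (w : GU n F q) (a : ℕ → F), w.1.1.det = 1 ∧ (∀ k, a k ≠ 0) ∧
      (∀ k, w.1.1 *ᵥ Φ.v k = a k • Φ.v (k + 1)) ∧ w.1.1 *ᵥ Φ.g = Φ.g ∧
      ∀ (h : GU n F q) (C : ℕ → F) (γ : F), Φ.Diag h C γ →
        Φ.Diag (w * h * w⁻¹) (fun k => C (k + (2 * m - 1))) γ := by
  obtain ⟨w₀, hw₀, hw₀g⟩ := Φ.exists_shift hF hg hn1 hn'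
  obtain ⟨l, hl, hl'⟩ := exists_div_conj hF (inv_norm_one hF (det_norm_one hF w₀))
  obtain ⟨P, hP, hPv, hPg⟩ := Φ.exists_pair hF hm 0 hl
  set a : ℕ → F := fun k => if k % (2 * m) = 0 % (2 * m) then l
    else if k % (2 * m) = (0 + m) % (2 * m) then (l ^ q)⁻¹ else 1
  have ha : ∀ k, a k ≠ 0 := fun k => by
    simp only [a]
    split_ifs
    exacts [hl, inv_ne_zero (pow_ne_zero q hl), one_ne_zero]
  have hwv : ∀ k, (w₀ * P).1.1 *ᵥ Φ.v k = a k • Φ.v (k + 1) := fun k => by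
    rw [GU_mul_mulVec, hPv, Matrix.mulVec_smul, hw₀]
  have hwg : (w₀ * P).1.1 *ᵥ Φ.g = Φ.g := by rw [GU_mul_mulVec, hPg, one_smul, hw₀g]
  refine ⟨w₀ * P, a, ?_, ha, hwv, hwg, fun h C γ hh => ⟨fun k => ?_, ?_⟩⟩
  · rw [det_mul_GU, hP]
    have hd : w₀.1.1.det ≠ 0 := fun h0 => by simpa [h0] using det_norm_one hF w₀
    have hlq := pow_ne_zero q hl
    field_simp at hl' ⊢
    linear_combination hl'
  · set i := k + (2 * m - 1) with hi
    have hk : Φ.v k = (a i)⁻¹ • ((w₀ * P).1.1 *ᵥ Φ.v i) := by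
      rw [hwv, smul_smul, inv_mul_cancel₀ (ha i), one_smul]
      exact Φ.v_congr (by rw [hi, Nat.add_assoc, Nat.sub_add_cancel (by omega), Nat.add_mod_right])
    show _ = C i • Φ.v k
    rw [hk, Matrix.mulVec_smul, GU_mul_mulVec, GU_mul_mulVec, GU_inv_mulVec, hh.1,
      Matrix.mulVec_smul, smul_comm]
  · have e : (w₀ * P)⁻¹.1.1 *ᵥ Φ.g = Φ.g := by
      conv_lhs => rw [← hwg]
      rw [GU_inv_mulVec]
    rw [GU_mul_mulVec, GU_mul_mulVec, e, hh.2, Matrix.mulVec_smul, hwg]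

/-- Even `n`: a torus element and a root element times the shift. -/
theorem even_core (hF : Fintype.card F = q ^ 2) (Φ : Frame n F q m) (hm : 2 ≤ m) (hg : Φ.g = 0)
    {h w x : GU n F q} {a C : ℕ → F} {γ : F} (hh : Φ.Diag h C γ)
    (hw : ∀ k, w.1.1 *ᵥ Φ.v k = a k • Φ.v (k + 1)) (ha : ∀ k, a k ≠ 0)
    (hhw : Φ.Diag (w * h * w⁻¹) (fun k => C (k + (2 * m - 1))) γ)
    (hx : IsEich (Φ.v 0) (Φ.v (m + 1)) 0 x)
    (hχ : C 0 ^ q * C (m + 1) ≠ 1) (hχ' : C (2 * m - 1) ^ q * C (m + 1 + (2 * m - 1)) ≠ 1)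
    (hgen : ∀ A : Subring F, C 0 ^ q * C (m + 1) ∈ A → A = ⊤)
    (K : Subgroup (GU n F q)) (hhK : h ∈ K) (hBK : x * w ∈ K) : TGroup F q n ≤ K := by
  have he := Φ.iso (show 1 ≤ m by omega) 0
  have hze : hermForm n F q (Φ.v (m + 1)) (Φ.v 0) = 0 := Φ.hv_zero fun e => by
    rw [Nat.zero_mod, show m + 1 + m = 1 + 2 * m by ring, Nat.add_mod_right,
      Nat.mod_eq_of_lt (by omega)] at e
    omega
  have hzz := Φ.iso (show 1 ≤ m by omega) (m + 1)
  let Q : F → GU n F q → Prop := fun c A => IsEich (Φ.v 0) (c • Φ.v (m + 1)) 0 A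
  have hce : ∀ c : F, hermForm n F q (c • Φ.v (m + 1)) (Φ.v 0) = 0 := fun c => by
    rw [herm_smul_left, hze, mul_zero]
  have hcc : ∀ c c' : F, hermForm n F q (c • Φ.v (m + 1)) (c' • Φ.v (m + 1)) = 0 := fun c c' => by
    rw [herm_smul_left, herm_smul_right, hzz, mul_zero, mul_zero]
  have hmul : ∀ c c' A B, Q c A → Q c' B → Q (c + c') (A * B) := fun c c' A B hA hB => by
    have h1 := hA.mul hF hB he (hce c) (hce c')
    rwa [← add_smul, hcc, add_zero, sub_zero] at h1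
  have hinv : ∀ c A, Q c A → Q (-c) A⁻¹ := fun c A hA => by
    have h1 := hA.inv hF he (hce c) (by rw [hcc, zero_pow (q_ne_zero hF)]; ring)
    rwa [← neg_smul, zero_pow (q_ne_zero hF)] at h1
  have hone : Q 0 1 := fun y => by rw [GU_one_mulVec]; simp [herm_zero_right _ hF]
  have hall := all_param K Q hone hmul hinv (h' := w * h * w⁻¹) (x := x) hhK
    (χ := C 0 ^ q * C (m + 1))
    (χ' := C (2 * m - 1) ^ q * C (m + 1 + (2 * m - 1)))
    (fun c A hA => by
      have h1 := diag_conj hF Φ hh (hh.1 (m + 1)) hA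
      rwa [mul_zero] at h1)
    (fun c A hA => by
      have h1 := diag_conj hF Φ hhw (hhw.1 (m + 1)) hA
      simp only [Nat.zero_add, mul_zero] at h1
      exact h1)
    (Frame.Diag.commute Φ hh hhw) (show Q 1 x by simpa only [Q, one_smul] using hx)
    (by
      rw [show x * (w * h * w⁻¹) * x⁻¹ = x * w * h * (x * w)⁻¹ by group]
      exact mul_mem (mul_mem hBK hhK) (inv_mem hBK))
    hχ hχ' hgen
  have hL : L K Φ 0 (m + 1) := fun c A hA => by
    obtain ⟨B, hBK', hB⟩ := hall c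
    rwa [hA.unique hB]
  have hxK : x ∈ K := hL 1 x (by rwa [one_smul])
  refine top_even hF Φ hm hg hw ha ?_ hL
  rw [show w = x⁻¹ * (x * w) by group]
  exact mul_mem (inv_mem hxK) hBK

/-- Odd `n`: the root element sits on the anisotropic vector. -/
theorem odd_core (hF : Fintype.card F = q ^ 2) (Φ : Frame n F q m) (hm : 1 ≤ m)
    (hgg : hermForm n F q Φ.g Φ.g = 1)
    {h w x : GU n F q} {a C : ℕ → F} {γ dx : F} (hh : Φ.Diag h C γ)
    (hw : ∀ k, w.1.1 *ᵥ Φ.v k = a k • Φ.v (k + 1)) (ha : ∀ k, a k ≠ 0)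
    (hwg : w.1.1 *ᵥ Φ.g = Φ.g)
    (hhw : Φ.Diag (w * h * w⁻¹) (fun k => C (k + (2 * m - 1))) γ)
    (hdx : dx + dx ^ q + hermForm n F q Φ.g Φ.g = 0) (hx : IsEich (Φ.v 0) Φ.g dx x)
    (hχ : C 0 ^ q * γ ≠ 1) (hχ' : C (2 * m - 1) ^ q * γ ≠ 1)
    (hgen : ∀ A : Subring F, C 0 ^ q * γ ∈ A → A = ⊤)
    (K : Subgroup (GU n F q)) (hhK : h ∈ K) (hBK : x * w ∈ K) : TGroup F q n ≤ K := by
  have he := Φ.iso hm 0
  let Q : F → GU n F q → Prop := fun c A => ∃ d,
    d + d ^ q + hermForm n F q (c • Φ.g) (c • Φ.g) = 0 ∧ IsEich (Φ.v 0) (c • Φ.g) d A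
  have hce : ∀ c : F, hermForm n F q (c • Φ.g) (Φ.v 0) = 0 := fun c => by
    rw [herm_smul_left, Φ.gv, mul_zero]
  have hmul : ∀ c c' A B, Q c A → Q c' B → Q (c + c') (A * B) := by
    rintro c c' A B ⟨d, hd, hA⟩ ⟨d', hd', hB⟩
    have h1 := hA.mul hF hB he (hce c) (hce c')
    rw [← add_smul] at h1
    refine ⟨_, ?_, h1⟩
    simp only [sub_pow_q hF, add_pow_q hF, add_smul, herm_add_left, herm_add_right _ _ _ hF,
      herm_conj (c' • Φ.g) (c • Φ.g) hF]
    linear_combination hd + hd'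
  have hinv : ∀ c A, Q c A → Q (-c) A⁻¹ := by
    rintro c A ⟨d, hd, hA⟩
    have h1 := hA.inv hF he (hce c) hd
    rw [← neg_smul] at h1
    refine ⟨_, ?_, h1⟩
    rw [neg_smul, herm_neg_left, herm_neg_right _ _ hF, pow_q_q hF]
    linear_combination hd
  have hone : Q 0 1 := ⟨0, by simp [zero_pow (q_ne_zero hF), herm_zero_left],
    fun y => by rw [GU_one_mulVec]; simp [herm_zero_right _ hF]⟩
  have hconj : ∀ (t : GU n F q) (D : ℕ → F), Φ.Diag t D γ → ∀ c A, Q c A →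
      Q (D 0 ^ q * γ * c) (t * A * t⁻¹) := by
    rintro t D ht c A ⟨d, hd, hA⟩
    refine ⟨D 0 ^ q * D 0 * d, ?_, diag_conj hF Φ ht ht.2 hA⟩
    have hγ : hermForm n F q (γ • Φ.g) (γ • Φ.g) = hermForm n F q Φ.g Φ.g := by
      rw [← ht.2, GU_herm]
    rw [herm_smul_left, herm_smul_right] at hγ hd ⊢
    simp only [mul_pow, pow_q_q hF]
    linear_combination (D 0 ^ q * D 0) * hd + (D 0 ^ q * D 0 * c * c ^ q) * hγ
  have hall := all_param K Q hone hmul hinv (h' := w * h * w⁻¹) (x := x) hhK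
    (hconj h C hh) (fun c A hA => by
      have h1 := hconj _ _ hhw c A hA
      simp only [Nat.zero_add] at h1
      exact h1)
    (Frame.Diag.commute Φ hh hhw) (show Q 1 x from ⟨dx, by rwa [one_smul], by rwa [one_smul]⟩)
    (by
      rw [show x * (w * h * w⁻¹) * x⁻¹ = x * w * h * (x * w)⁻¹ by group]
      exact mul_mem (mul_mem hBK hhK) (inv_mem hBK))
    hχ hχ' hgen
  have hM : M K Φ 0 := fun c => let ⟨A, hA, d, hd, hA'⟩ := hall c; ⟨A, hA, d, hd, hA'⟩
  obtain ⟨B, hBK', d, hd, hB⟩ := hM 1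
  rw [one_smul] at hB hd
  have hfull : Full K (Φ.v 0) := full_of_pair hF he (Φ.gv 0) (Φ.gv 0)
    (fun c => let ⟨A, hA, d, _, hA'⟩ := hM c; ⟨A, hA, d, hA'⟩) hBK' hB
    (by rw [hgg]; exact one_ne_zero)
  have hxK : x ∈ K := EK.of_one hF he (Φ.gv 0) hfull hd hB hBK' x dx hdx hx
  refine top_odd hF Φ hm hgg hw ha hwg ?_ hM
  rw [show w = x⁻¹ * (x * w) by group]
  exact mul_mem (inv_mem hxK) hBK

/-- `SU_n(q)` is two-generated. -/
theorem su_two_generated (hF : Fintype.card F = q ^ 2) (hn : 3 ≤ n) (h32 : ¬ (n = 3 ∧ q = 2)) :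
    ∃ a b : SU n F q, Subgroup.closure ({a, b} : Set (SU n F q)) = ⊤ := by
  obtain ⟨u, hu, hgen⟩ := exists_gen hF
  have hq := one_lt_q hF
  set μ : F := (u : F) with hμdef
  have hμ0 : μ ≠ 0 := u.ne_zero
  have hpow : ∀ k, 0 < k → k < q ^ 2 - 1 → μ ^ k ≠ 1 := fun k hk hk' e =>
    pow_ne_one_of_lt_orderOf (x := u) hk.ne' (by omega) (Units.ext (by simpa using e))
  have hq2 : q * 2 ≤ q ^ 2 := by rw [pow_two]; exact Nat.mul_le_mul_left q hq
  have hμ1 : μ ≠ 1 := fun e => hpow 1 one_pos (by omega) (by rw [pow_one, e])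
  have hμq : μ ^ q ≠ μ := fun e => hpow (q - 1) (by omega) (by omega)
    (mul_right_cancel₀ hμ0 (by rw [← pow_succ, Nat.sub_add_cancel (by omega), e, one_mul]))
  have hμqq : (μ ^ q) ^ q = μ := pow_q_q hF μ
  have hμq0 : μ ^ q ≠ 0 := pow_ne_zero q hμ0
  have hμq1 : μ ^ q ≠ 1 := fun e => hμ1 (by rw [← hμqq, e, one_pow])
  rcases Nat.even_or_odd n with ⟨m, hm⟩ | ⟨m, hm⟩
  · -- even
    obtain ⟨Φ, hg, hg0⟩ := exists_frame (m := m) hF (by omega) (n := n) (by omega) (by omega)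
    obtain ⟨w, a, hwd, ha, hw, hwg, hhw⟩ := exists_w hF Φ (by omega) hg (by omega) (by omega)
    obtain ⟨A, hA, hA'⟩ := Φ.exists_pair hF (by omega) 0 hμ0
    obtain ⟨B, hB, hB'⟩ := Φ.exists_pair hF (by omega) 1 (inv_ne_zero hμ0)
    obtain ⟨x, hx, hxd⟩ := exists_eich hF (Φ.iso (show 1 ≤ m by omega) 0) (z := Φ.v (m + 1))
      (Φ.hv_zero fun e => by
        rw [Nat.zero_mod, show m + 1 + m = 1 + 2 * m by ring, Nat.add_mod_right,
          Nat.mod_eq_of_lt (by omega)] at e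
        omega) (d := 0)
      (by rw [Φ.iso (by omega), zero_pow (q_ne_zero hF)]; ring)
    have hh := Frame.Diag.mul Φ hA' hB'
    refine finish hF hn h32 (A := A * B) (B := x * w) ?_ ?_ fun K hhK hBK =>
      even_core hF Φ (by omega) (hg0 (by omega)) hh hw ha (hhw _ _ _ hh) hx ?_ ?_ ?_ K hhK hBK
    · rw [det_mul_GU, hA, hB, inv_pow, inv_inv]; field_simp
    · rw [det_mul_GU, hxd, hwd, mul_one]
    all_goals
      have e0 : (0 : ℕ) % (2 * m) = 0 := Nat.zero_mod _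
      have e1 : 1 % (2 * m) = 1 := Nat.mod_eq_of_lt (by omega)
      have e2 : (0 + m) % (2 * m) = m := by rw [Nat.zero_add, Nat.mod_eq_of_lt (by omega)]
      have e3 : (1 + m) % (2 * m) = m + 1 := by rw [Nat.mod_eq_of_lt (by omega)]; omega
      have e4 : (m + 1) % (2 * m) = m + 1 := Nat.mod_eq_of_lt (by omega)
      have e5 : (2 * m - 1) % (2 * m) = 2 * m - 1 := Nat.mod_eq_of_lt (by omega)
      have e6 : (m + 1 + (2 * m - 1)) % (2 * m) = m := by
        rw [show m + 1 + (2 * m - 1) = m + 2 * m by omega, Nat.add_mod_right, Nat.mod_eq_of_lt (by omega)]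
      simp only [e0, e1, e2, e3, e4, e5, e6, inv_pow, inv_inv, if_pos,
        show ¬ m + 1 = 0 by omega, show ¬ m + 1 = m by omega, show ¬ m + 1 = 1 by omega,
        show ¬ (0 : ℕ) = 1 by omega, show ¬ (0 : ℕ) = m + 1 by omega, show ¬ m = 0 by omega,
        show ¬ m = 1 by omega, show ¬ m = m + 1 by omega, show ¬ 2 * m - 1 = 0 by omega,
        show ¬ 2 * m - 1 = 1 by omega, show ¬ 2 * m - 1 = m by omega, if_false, one_mul, mul_one]
    · intro e
      exact hpow (q + q) (by omega) (by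
        have h3 : q * 3 ≤ q ^ 2 ∨ q = 2 := by
          rcases Nat.lt_or_ge q 3 with h | h
          · right; omega
          · left; rw [pow_two]; exact Nat.mul_le_mul_left q h
        rcases h3 with h3 | rfl
        · omega
        · exfalso
          have h4 : μ ^ 4 = μ := by rw [show (4 : ℕ) = 2 * 2 from rfl, pow_mul]; exact hμqq
          exact hμ1 (by rw [← h4]; linear_combination e)) (by rw [pow_add]; exact e)
    · by_cases hm2 : 2 * m - 1 = m + 1
      · rw [if_pos hm2, hμqq]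
        intro e
        exact hμq (by field_simp at e; exact e.symm)
      · rw [if_neg hm2, one_pow, one_mul]
        simpa using hμq1
    · intro S hS
      refine hgen 2 two_pos hq S ?_
      have := pow_mem hS q
      rwa [mul_pow, hμqq, ← pow_two] at this
  · -- odd
    obtain ⟨Φ, hg, -⟩ := exists_frame (m := m) hF (by omega) (n := n) (by omega) (by omega)
    have hgg := hg hm
    obtain ⟨w, a, hwd, ha, hw, hwg, hhw⟩ := exists_w hF Φ (by omega) hg (by omega) (by omega)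
    obtain ⟨A, hA, hA'⟩ := Φ.exists_pair hF (by omega) 0 hμ0
    obtain ⟨dx, hdx⟩ := exists_eich_param hF Φ.g
    obtain ⟨x, hx, hxd⟩ := exists_eich hF (Φ.iso (show 1 ≤ m by omega) 0) (Φ.gv 0) hdx
    have hscale : ∀ ζ : F, ζ * ζ ^ q = 1 →
        ∃ G : GU n F q, G.1.1.det = ζ ∧ Φ.Diag G (fun _ => 1) ζ := fun ζ hζ => by
      obtain ⟨G, h1, h2, h3⟩ := exists_GU_scale hF hgg hζ
      exact ⟨G, h1, fun k => by rw [one_smul]; exact h3 _ (Φ.vg hF k), h2⟩
    have hζ : μ ^ q / μ * (μ ^ q / μ) ^ q = 1 := by rw [div_pow, hμqq]; field_simp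
    have e0 : (0 : ℕ) % (2 * m) = 0 := Nat.zero_mod _
    have e2 : (0 + m) % (2 * m) = m := by rw [Nat.zero_add, Nat.mod_eq_of_lt (by omega)]
    have e5 : (2 * m - 1) % (2 * m) = 2 * m - 1 := Nat.mod_eq_of_lt (by omega)
    by_cases hq' : q = 2
    · have hm2 : 2 ≤ m := by
        by_contra h
        exact h32 ⟨by omega, hq'⟩
      subst hq'
      obtain ⟨B, hB, hB'⟩ := Φ.exists_pair hF (by omega) 1 hμ0
      obtain ⟨G, hG, hG'⟩ := hscale ((μ ^ 2 / μ) ^ 2) (by
        rw [← mul_pow, hζ, one_pow])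
      have h3 : μ ^ 3 = 1 := mul_right_cancel₀ hμ0 (by
        rw [← pow_succ, one_mul, show 3 + 1 = 2 * 2 from rfl, pow_mul]; exact hμqq)
      have hh := Frame.Diag.mul Φ (Frame.Diag.mul Φ hA' hB') hG'
      refine finish hF hn h32 (A := A * B * G) (B := x * w) ?_ ?_ fun K hhK hBK =>
        odd_core hF Φ (by omega) hgg hh hw ha hwg (hhw _ _ _ hh) hdx hx ?_ ?_ ?_ K hhK hBK
      · rw [det_mul_GU, det_mul_GU, hA, hB, hG]; field_simp
      · rw [det_mul_GU, hxd, hwd, mul_one]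
      all_goals
        have e1 : 1 % (2 * m) = 1 := Nat.mod_eq_of_lt (by omega)
        have e3 : (1 + m) % (2 * m) = m + 1 := by rw [Nat.mod_eq_of_lt (by omega)]; omega
        have e8 : μ ^ 2 / μ = μ := by rw [pow_two, mul_div_assoc, div_self hμ0, mul_one]
        simp only [e0, e1, e2, e3, e5, e8, if_pos, show ¬ (0 : ℕ) = 1 by omega,
          show ¬ (0 : ℕ) = m + 1 by omega, show ¬ 2 * m - 1 = 0 by omega,
          show ¬ 2 * m - 1 = 1 by omega, show ¬ 2 * m - 1 = m by omega, if_false, one_mul, mul_one]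
      · intro e
        exact hμ1 (by linear_combination e - μ * h3)
      · by_cases hm' : 2 * m - 1 = m + 1
        · rw [if_pos hm', show (μ ^ 2)⁻¹ = μ from inv_eq_of_mul_eq_one_left (by
            rw [← pow_succ']; exact h3)]
          intro e
          exact hμ1 (by linear_combination e - μ * h3)
        · rw [if_neg hm', one_pow, one_mul]
          exact hμq1
      · intro S hS
        refine hgen 1 one_pos (by omega) S ?_
        rwa [show μ ^ 2 * μ ^ 2 = μ ^ 1 by linear_combination μ * h3] at hS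
    · have hq3 : 3 ≤ q := by omega
      have hq3' : q * 3 ≤ q ^ 2 := by rw [pow_two]; exact Nat.mul_le_mul_left q hq3
      obtain ⟨G, hG, hG'⟩ := hscale (μ ^ q / μ) hζ
      have hh := Frame.Diag.mul Φ hA' hG'
      have hpoweq : ∀ {k l : ℕ}, l < k → k - l < q ^ 2 - 1 → μ ^ k ≠ μ ^ l := fun {k l} hlk hkl e =>
        hpow (k - l) (by omega) hkl (mul_right_cancel₀ (pow_ne_zero l hμ0) (by
          rw [← pow_add, Nat.sub_add_cancel hlk.le, e, one_mul]))
      refine finish hF hn h32 (A := A * G) (B := x * w) ?_ ?_ fun K hhK hBK =>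
        odd_core hF Φ (by omega) hgg hh hw ha hwg (hhw _ _ _ hh) hdx hx ?_ ?_ ?_ K hhK hBK
      · rw [det_mul_GU, hA, hG]; field_simp
      · rw [det_mul_GU, hxd, hwd, mul_one]
      all_goals
        simp only [e0, e2, e5, if_pos, show ¬ 2 * m - 1 = 0 by omega, if_false, one_mul, mul_one]
      · intro e
        field_simp at e
        exact hpoweq (k := q + q) (l := 1) (by omega) (by omega)
          (by rw [pow_add, pow_one]; first | linear_combination e | linear_combination -e)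
      · by_cases hm1 : 2 * m - 1 = m
        · rw [if_pos hm1, inv_pow, hμqq]
          intro e
          field_simp at e
          exact hpoweq (k := q) (l := 2) (by omega) (by omega)
            (by first | linear_combination e | linear_combination -e)
        · rw [if_neg hm1, one_pow, one_mul]
          exact fun e => hμq ((div_eq_one_iff_eq hμ0).1 e)
      · intro S hS
        refine hgen 3 (by omega) hq3 S ?_
        have := pow_mem hS (2 * q + 1)
        convert this using 1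
        have hA4 : ((μ ^ q) ^ q) ^ 4 * (μ ^ q) ^ 2 = (μ ^ q * μ ^ q) ^ (2 * q + 1) := by ring
        rw [show μ ^ q * (μ ^ q / μ) = μ ^ q * μ ^ q / μ by ring, div_pow, ← hA4, hμqq,
          eq_div_iff (pow_ne_zero _ hμ0)]
        ring

end Cfsg.Agent.Lib.PSUTwoGen49
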