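import Cfsg.Agent.Lib.PSUTwoGen49.Frame

/-!
`SU_n(q)` is generated by two elements, `n ≥ 3`, `(n, q) ≠ (3, 2)`: a torus element and a root
element times the shift of a hyperbolic frame.
-/

set_option autoImplicit false
set_option linter.unusedSectionVars false

namespace Cfsg.Agent.Lib.PSUTwoGen49

open Matrix Cfsg.Agent.Lib.Unitary

variable {F : Type*} [Field F] [Fintype F] {q n m : ℕ} {K : Subgroup (GU n F q)}

/-! ### Field generators -/

theorem exists_gen (hF : Fintype.card F = q ^ 2) :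
    ∃ μ : Fˣ, orderOf μ = q ^ 2 - 1 ∧ ∀ k : ℕ, 0 < k → k ≤ q → ∀ A : Subring F,
      (μ : F) ^ k ∈ A → A = ⊤ := by
  classical
  obtain ⟨μ, hμ⟩ := IsCyclic.exists_ofOrder_eq_natCard (α := Fˣ)
  rw [Nat.card_units, Nat.card_eq_fintype_card, hF] at hμ
  refine ⟨μ, hμ, fun k hk hkq A hA => ?_⟩
  by_contra hne
  haveI : Finite A := Subtype.finite
  haveI : Fintype A := Fintype.ofFinite A
  letI := Fintype.fieldOfDomain A
  set β : A := ⟨(μ : F) ^ k, hA⟩
  have hβ0 : β ≠ 0 := fun h => pow_ne_zero k μ.ne_zero (congrArg Subtype.val h)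
  have h1 : ((μ : F) ^ k) ^ (Nat.card A - 1) = 1 := by
    have h1 := congrArg Subtype.val (FiniteField.pow_card_sub_one_eq_one β hβ0)
    rw [Nat.card_eq_fintype_card]
    exact h1
  rw [← pow_mul] at h1
  have hdvd : q ^ 2 - 1 ∣ k * (Nat.card A - 1) := by
    rw [← hμ, orderOf_dvd_iff_pow_eq_one, ← Units.val_eq_one, Units.val_pow_eq_pow_val]
    exact h1
  have hA2 : 2 ≤ Nat.card A := Finite.one_lt_card
  have hle := Nat.le_of_dvd (Nat.mul_pos hk (by omega)) hdvd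
  have hdim : 2 ≤ Module.finrank A F := by
    have hpos : 0 < Module.finrank A F := Module.finrank_pos
    by_contra hlt
    have e := Module.natCard_eq_pow_finrank (K := A) (V := F)
    rw [show Module.finrank A F = 1 by omega, pow_one] at e
    have : Function.Surjective ((↑) : A → F) :=
      (Function.Injective.bijective_of_nat_card_le Subtype.val_injective e.le).2
    refine hne (eq_top_iff.2 fun x _ => ?_)
    obtain ⟨y, hy⟩ := this x
    exact hy ▸ y.2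
  have e := Module.natCard_eq_pow_finrank (K := A) (V := F)
  rw [Nat.card_eq_fintype_card (α := F), hF] at e
  have hsq : Nat.card A * Nat.card A ≤ q ^ 2 := by
    rw [e, ← pow_two]
    exact Nat.pow_le_pow_right (by omega) hdim
  have haq : Nat.card A ≤ q := by nlinarith
  have hq := one_lt_q hF
  have h2 : k * (Nat.card A - 1) ≤ q * (q - 1) := Nat.mul_le_mul hkq (by omega)
  have h3 : q * (q - 1) + q = q ^ 2 := by
    rw [← Nat.mul_succ, pow_two]; congr 1; omega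
  omega

/-! ### Torus actions -/

theorem diag_conj (hF : Fintype.card F = q ^ 2) (Φ : Frame n F q m) {t : GU n F q} {C : ℕ → F}
    {γ : F} (ht : Φ.Diag t C γ) {z : Fin n → F} {ζ : F} (hz : t.1.1 *ᵥ z = ζ • z) {a d : F}
    {A : GU n F q} (hA : IsEich (Φ.v 0) (a • z) d A) :
    IsEich (Φ.v 0) ((C 0 ^ q * ζ * a) • z) (C 0 ^ q * C 0 * d) (t * A * t⁻¹) := by
  have h := hA.conj t
  rw [ht.1, Matrix.mulVec_smul, hz] at h
  have h' := eich_axis hF h
  rw [smul_smul, smul_smul] at h'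
  rwa [show C 0 ^ q * ζ * a = C 0 ^ q * (a * ζ) by ring, ← mul_assoc]

/-! ### Assembling -/

theorem shift_pow (Φ : Frame n F q m) {w : GU n F q} {a : ℕ → F}
    (hw : ∀ k, w.1.1 *ᵥ Φ.v k = a k • Φ.v (k + 1)) (ha : ∀ k, a k ≠ 0) :
    ∀ j k, ∃ b : F, b ≠ 0 ∧ (w ^ j).1.1 *ᵥ Φ.v k = b • Φ.v (k + j)
  | 0, k => ⟨1, one_ne_zero, by simp⟩
  | j + 1, k => by
    obtain ⟨b, hb, e⟩ := shift_pow Φ hw ha j k
    refine ⟨b * a (k + j), mul_ne_zero hb (ha _), ?_⟩
    rw [pow_succ', GU_mul_mulVec, e, Matrix.mulVec_smul, hw, smul_smul, Nat.add_assoc]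

/-- From the root groups at `v 0` and the shift. -/
theorem top_of_rel (hF : Fintype.card F = q ^ 2) (Φ : Frame n F q m) (hm : 1 ≤ m) {w : GU n F q}
    {a : ℕ → F} (hw : ∀ k, w.1.1 *ᵥ Φ.v k = a k • Φ.v (k + 1)) (ha : ∀ k, a k ≠ 0) (hwK : w ∈ K)
    (hfull : Full K (Φ.v 0))
    (hv : ∀ j, j < 2 * m → j ≠ 0 → j ≠ m → ∀ c : F, EK K (Φ.v 0) (c • Φ.v j))
    (hg : ∀ c : F, EK K (Φ.v 0) (c • Φ.g)) : TGroup F q n ≤ K := by
  classical
  have hperp0 : ∀ j, j < 2 * m → j ≠ m → hermForm n F q (Φ.v j) (Φ.v 0) = 0 := fun j hj hjm =>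
    Φ.hv_zero fun e => hjm (by
      rw [Nat.zero_mod] at e
      rcases Nat.lt_or_ge (j + m) (2 * m) with h | h
      · rw [Nat.mod_eq_of_lt h] at e; omega
      · rw [Nat.mod_eq_sub_mod h, Nat.mod_eq_of_lt (by omega)] at e; omega)
  have hEK : ∀ z, hermForm n F q z (Φ.v 0) = 0 → hermForm n F q z (Φ.v m) = 0 →
      EK K (Φ.v 0) z := by
    intro z h0 hmz
    let P : (Fin n → F) → Prop := fun x => hermForm n F q x (Φ.v 0) = 0 ∧ EK K (Φ.v 0) x
    have hP : ∀ x y, P x → P y → P (x + y) := fun x y hx hy =>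
      ⟨by rw [herm_add_left, hx.1, hy.1, add_zero], hx.2.add hF (Φ.iso hm 0) hx.1 hy.1 hfull hy.2⟩
    have hz0 : P 0 := ⟨herm_zero_left _, hfull⟩
    suffices P z from this.2
    rw [Φ.expand z]
    refine hP _ _ (Finset.sum_induction _ P hP hz0 fun k hk => ?_)
      ⟨by rw [herm_smul_left, Φ.gv, mul_zero], hg _⟩
    have hk' := Finset.mem_range.1 hk
    rcases eq_or_ne k 0 with rfl | hk0
    · rw [Nat.zero_add, hmz, zero_smul]; exact hz0
    rcases eq_or_ne k m with rfl | hkm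
    · rw [← two_mul, Φ.v_congr (show 2 * k % (2 * k) = 0 % (2 * k) by simp), h0, zero_smul]
      exact hz0
    exact ⟨by rw [herm_smul_left, hperp0 k hk' hkm, mul_zero], hv k hk' hk0 hkm _⟩
  refine tgroup_le hF (by simpa using Φ.hyp hm 0) hEK fun z h0 hmz => ?_
  obtain ⟨b, hb, hb'⟩ := shift_pow Φ hw ha m 0
  obtain ⟨b', hb0', hb''⟩ := shift_pow Φ hw ha m m
  rw [Nat.zero_add] at hb'
  rw [← two_mul, Φ.v_congr (show 2 * m % (2 * m) = 0 % (2 * m) by simp)] at hb''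
  set W := w ^ m
  have hWK : W ∈ K := pow_mem hwK _
  set z' := W⁻¹.1.1 *ᵥ ((b ^ q)⁻¹ • z) with hz'
  have hWz : W.1.1 *ᵥ z' = (b ^ q)⁻¹ • z := GU_mulVec_inv _ W
  have e1 : hermForm n F q z' (Φ.v 0) = 0 := by
    rw [← GU_herm z' (Φ.v 0) W, hWz, hb', herm_smul_left, herm_smul_right, hmz, mul_zero, mul_zero]
  have e2 : hermForm n F q z' (Φ.v m) = 0 := by
    rw [← GU_herm z' (Φ.v m) W, hWz, hb'', herm_smul_left, herm_smul_right, h0, mul_zero, mul_zero]
  have h := (hEK z' e1 e2).conj hWK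
  rw [hb', hWz] at h
  have h' := h.axis hF hb
  rwa [smul_smul, mul_inv_cancel₀ (pow_ne_zero q hb), one_smul] at h'

/-- The relation used for even `n`. -/
def L (K : Subgroup (GU n F q)) (Φ : Frame n F q m) (i j : ℕ) : Prop :=
  ∀ c : F, EK0 K (Φ.v i) (c • Φ.v j)

theorem L.symm (hF : Fintype.card F = q ^ 2) {Φ : Frame n F q m} {i j : ℕ} (h : L K Φ i j) :
    L K Φ j i := by
  intro c A hA
  have h1 := eich_axis hF (eich_swap hF hA)
  rw [smul_neg, ← neg_smul, mul_zero] at h1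
  exact h _ A h1

theorem L.shift (hF : Fintype.card F = q ^ 2) {Φ : Frame n F q m} {w : GU n F q} {a : ℕ → F}
    (hw : ∀ k, w.1.1 *ᵥ Φ.v k = a k • Φ.v (k + 1)) (ha : ∀ k, a k ≠ 0) (hwK : w ∈ K) {i j : ℕ}
    (h : L K Φ i j) : L K Φ (i + 1) (j + 1) := by
  intro c
  have h1 := (h (c / (a i ^ q * a j))).conj hwK
  rw [hw, Matrix.mulVec_smul, hw, smul_smul] at h1
  have h2 := h1.axis hF (ha i)
  rwa [smul_smul, show a i ^ q * (c / (a i ^ q * a j) * a j) = c by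
    have := ha j
    have := pow_ne_zero q (ha i)
    field_simp] at h2

theorem L.comp (hF : Fintype.card F = q ^ 2) (hm : 1 ≤ m) {Φ : Frame n F q m} {i j j' k : ℕ}
    (h1 : L K Φ i j) (h2 : L K Φ j' k) (hjj : hermForm n F q (Φ.v j) (Φ.v j') = 1)
    (hij : hermForm n F q (Φ.v i) (Φ.v j) = 0) (hij' : hermForm n F q (Φ.v i) (Φ.v j') = 0)
    (hik : hermForm n F q (Φ.v i) (Φ.v k) = 0) (hjk : hermForm n F q (Φ.v j) (Φ.v k) = 0)
    (hkj : hermForm n F q (Φ.v k) (Φ.v j') = 0) : L K Φ i k := by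
  intro c A hA
  obtain ⟨g, hg, -⟩ := exists_eich hF (Φ.iso hm j') (z := c • Φ.v k)
    (by rw [herm_smul_left, hkj, mul_zero]) (d := 0)
    (by rw [herm_smul_left, herm_smul_right, Φ.iso hm k, zero_pow (q_ne_zero hF)]; ring)
  have hgK : g ∈ K := h2 c g hg
  obtain ⟨B, hB, -⟩ := exists_eich hF (Φ.iso hm i) (z := (1 : F) • Φ.v j)
    (by rw [one_smul, herm_eq_zero_symm hF hij]) (d := 0)
    (by rw [one_smul, Φ.iso hm j, zero_pow (q_ne_zero hF)]; ring)
  have hBK : B ∈ K := h1 1 B hB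
  have hgi : g.1.1 *ᵥ Φ.v i = Φ.v i := by
    rw [hg, hij', zero_smul, add_zero, mul_zero, herm_smul_right, hik, mul_zero, sub_zero, zero_smul,
      add_zero]
  have hgj : g.1.1 *ᵥ Φ.v j = Φ.v j + c • Φ.v k := by
    rw [hg, hjj, one_smul, zero_mul, herm_smul_right, hjk, mul_zero, sub_zero, zero_smul, add_zero]
  have h3 := hB.conj g
  rw [one_smul, hgi, hgj] at h3
  rw [one_smul] at hB
  have hje : hermForm n F q (Φ.v j) (Φ.v i) = 0 := herm_eq_zero_symm hF hij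
  have hke : hermForm n F q (Φ.v k) (Φ.v i) = 0 := herm_eq_zero_symm hF hik
  have h4 := h3.mul hF (hB.inv hF (Φ.iso hm i) hje
    (by rw [Φ.iso hm j, zero_pow (q_ne_zero hF)]; ring)) (Φ.iso hm i)
    (by rw [herm_add_left, herm_smul_left, hje, hke, mul_zero, add_zero])
    (by rw [herm_neg_left, hje, neg_zero])
  simp only [zero_pow (q_ne_zero hF), herm_neg_left, herm_add_right _ _ _ hF, herm_smul_right,
    Φ.iso hm j, hjk, mul_zero, add_zero, neg_zero, sub_zero,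
    show Φ.v j + c • Φ.v k + -Φ.v j = c • Φ.v k by abel] at h4
  rw [hA.unique h4]
  exact mul_mem (mul_mem (mul_mem hgK hBK) (inv_mem hgK)) (inv_mem hBK)

theorem EK0.toEK (hF : Fintype.card F = q ^ 2) {e z : Fin n → F} (he : hermForm n F q e e = 0)
    (hze : hermForm n F q z e = 0) (hzz : hermForm n F q z z = 0) (hfull : Full K e)
    (h : EK0 K e z) : EK K e z := by
  have hd : (0 : F) + 0 ^ q + hermForm n F q z z = 0 := by
    rw [hzz, zero_pow (q_ne_zero hF)]; ring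
  obtain ⟨A, hA, -⟩ := exists_eich hF he hze hd
  exact EK.of_one hF he hze hfull hd hA (h A hA)

/-- The even case. -/
theorem top_even (hF : Fintype.card F = q ^ 2) (Φ : Frame n F q m) (hm : 2 ≤ m) (hg0 : Φ.g = 0)
    {w : GU n F q} {a : ℕ → F} (hw : ∀ k, w.1.1 *ᵥ Φ.v k = a k • Φ.v (k + 1)) (ha : ∀ k, a k ≠ 0)
    (hwK : w ∈ K) (h : L K Φ 0 (m + 1)) : TGroup F q n ≤ K := by
  have hsh : ∀ s i j, L K Φ i j → L K Φ (i + s) (j + s) := by
    intro s
    induction s with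
    | zero => exact fun i j h => h
    | succ s ih => exact fun i j h => L.shift hF hw ha hwK (ih i j h)
  have hz : ∀ i j, i < 2 * m → j < 2 * m → j ≠ i + m → i ≠ j + m →
      hermForm n F q (Φ.v i) (Φ.v j) = 0 := by
    intro i j hi hj h1 h2
    refine Φ.hv_zero fun e => ?_
    rw [Nat.mod_eq_of_lt hj] at e
    rcases Nat.lt_or_ge (i + m) (2 * m) with h | h
    · rw [Nat.mod_eq_of_lt h] at e; omega
    · rw [Nat.mod_eq_sub_mod h, Nat.mod_eq_of_lt (by omega)] at e; omega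
  have hhigh : ∀ t, 1 ≤ t → t < m → L K Φ 0 (m + t) := by
    intro t ht1 htm
    induction t with
    | zero => omega
    | succ t ih =>
      rcases Nat.eq_zero_or_pos t with rfl | ht
      · exact h
      have hb : L K Φ t (m + 1 + t) := by simpa using hsh t 0 (m + 1) h
      rw [show m + (t + 1) = m + 1 + t by ring]
      refine L.comp hF (by omega) (ih ht (by omega)) (k := m + 1 + t) hb ?_ ?_ ?_ ?_ ?_ ?_
      · rw [Φ.gram, if_pos]
        rw [show m + t + m = t + 2 * m by ring, Nat.add_mod_right]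
      all_goals exact hz _ _ (by omega) (by omega) (by omega) (by omega)
  have hall : ∀ j, j < 2 * m → j ≠ 0 → j ≠ m → L K Φ 0 j := by
    intro j hj hj0 hjm
    rcases Nat.lt_or_ge j m with hlt | hge
    · have h1 := hsh j _ _ ((hhigh (m - j) (by omega) (by omega)).symm hF)
      intro c
      have h2 := h1 c
      rwa [Φ.v_congr (show (m + (m - j) + j) % (2 * m) = 0 % (2 * m) by
        rw [show m + (m - j) + j = 2 * m by omega]; simp), Nat.zero_add] at h2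
    · have h1 := hhigh (j - m) (by omega) (by omega)
      rwa [show m + (j - m) = j by omega] at h1
  have hp : hermForm n F q (Φ.v 1) (Φ.v (m + 1)) = 1 := by
    rw [add_comm m 1]; exact Φ.hv_one 1
  have h1 : hermForm n F q (Φ.v 1) (Φ.v 0) = 0 := hz _ _ (by omega) (by omega) (by omega) (by omega)
  have h2 : hermForm n F q (Φ.v (m + 1)) (Φ.v 0) = 0 :=
    hz _ _ (by omega) (by omega) (by omega) (by omega)
  have hex : ∀ (j : ℕ), j < 2 * m → j ≠ 0 → j ≠ m → hermForm n F q (Φ.v j) (Φ.v 0) = 0 →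
      ∀ c : F, ∃ A ∈ K, ∃ d, IsEich (Φ.v 0) (c • Φ.v j) d A := by
    intro j hj hj0 hjm hje c
    obtain ⟨A, hA, -⟩ := exists_eich hF (Φ.iso (by omega) 0) (z := c • Φ.v j)
      (by rw [herm_smul_left, hje, mul_zero]) (d := 0)
      (by rw [herm_smul_left, herm_smul_right, Φ.iso (by omega) j, zero_pow (q_ne_zero hF)]; ring)
    exact ⟨A, hall j hj hj0 hjm c A hA, 0, hA⟩
  obtain ⟨B, hBK, d, hB⟩ := hex (m + 1) (by omega) (by omega) (by omega) h2 1
  rw [one_smul] at hB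
  have hfull : Full K (Φ.v 0) := full_of_pair hF (Φ.iso (by omega) 0) h1 h2
    (hex 1 (by omega) (by omega) (by omega) h1) hBK hB (by rw [hp]; exact one_ne_zero)
  refine top_of_rel hF Φ (by omega) hw ha hwK hfull (fun j hj hj0 hjm c => ?_) fun c => ?_
  · exact EK0.toEK hF (Φ.iso (by omega) 0)
      (by rw [herm_smul_left, hz j 0 hj (by omega) (by omega) (by omega), mul_zero])
      (by rw [herm_smul_left, herm_smul_right, Φ.iso (by omega) j]; ring) hfull (hall j hj hj0 hjm c)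
  · rw [hg0, smul_zero]; exact hfull

/-- The relation used for odd `n`. -/
def M (K : Subgroup (GU n F q)) (Φ : Frame n F q m) (i : ℕ) : Prop :=
  ∀ c : F, ∃ A ∈ K, ∃ d, d + d ^ q + hermForm n F q (c • Φ.g) (c • Φ.g) = 0 ∧
    IsEich (Φ.v i) (c • Φ.g) d A

theorem M.shift (hF : Fintype.card F = q ^ 2) {Φ : Frame n F q m} {w : GU n F q} {a : ℕ → F}
    (hw : ∀ k, w.1.1 *ᵥ Φ.v k = a k • Φ.v (k + 1)) (ha : ∀ k, a k ≠ 0)
    (hwg : w.1.1 *ᵥ Φ.g = Φ.g) (hwK : w ∈ K) {i : ℕ} (h : M K Φ i) : M K Φ (i + 1) := by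
  intro c
  obtain ⟨A, hAK, d, hd, hA⟩ := h (c / a i ^ q)
  refine ⟨w * A * w⁻¹, mul_mem (mul_mem hwK hAK) (inv_mem hwK), a i ^ q * a i * d, ?_, ?_⟩
  · have := eich_axis_valid (μ := a i) hF hd
    rwa [smul_smul, mul_div_cancel₀ _ (pow_ne_zero q (ha i))] at this
  · have h1 := hA.conj w
    rw [hw, Matrix.mulVec_smul, hwg] at h1
    have h2 := eich_axis hF h1
    rwa [smul_smul, mul_div_cancel₀ _ (pow_ne_zero q (ha i))] at h2

/-- The odd case. -/
theorem top_odd (hF : Fintype.card F = q ^ 2) (Φ : Frame n F q m) (hm : 1 ≤ m)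
    (hgg : hermForm n F q Φ.g Φ.g = 1) {w : GU n F q} {a : ℕ → F}
    (hw : ∀ k, w.1.1 *ᵥ Φ.v k = a k • Φ.v (k + 1)) (ha : ∀ k, a k ≠ 0)
    (hwg : w.1.1 *ᵥ Φ.g = Φ.g) (hwK : w ∈ K) (h : M K Φ 0) : TGroup F q n ≤ K := by
  have hM : ∀ i, M K Φ i := fun i => by
    induction i with
    | zero => exact h
    | succ i ih => exact M.shift hF hw ha hwg hwK ih
  obtain ⟨B, hBK, d, hd, hB⟩ := h 1
  rw [one_smul] at hB hd
  have hfull : Full K (Φ.v 0) := full_of_pair hF (Φ.iso hm 0) (Φ.gv 0) (Φ.gv 0)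
    (fun c => let ⟨A, hA, d, _, hA'⟩ := h c; ⟨A, hA, d, hA'⟩) hBK hB (by rw [hgg]; exact one_ne_zero)
  refine top_of_rel hF Φ hm hw ha hwK hfull (fun j hj hj0 hjm c => ?_) fun c => ?_
  swap
  · obtain ⟨A, hA, d, hd, hA'⟩ := h c
    exact EK.of_one hF (Φ.iso hm 0) (by rw [herm_smul_left, Φ.gv, mul_zero]) hfull hd hA' hA
  have h0j : hermForm n F q (Φ.v 0) (Φ.v j) = 0 :=
    Φ.hv_zero fun e => hjm (by
      rw [Nat.zero_add, Nat.mod_eq_of_lt hj, Nat.mod_eq_of_lt (by omega)] at e; omega)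
  obtain ⟨s, hs⟩ : ∃ s : F, -(s ^ q) = c := ⟨(-c) ^ q, by rw [pow_q_q hF, neg_neg]⟩
  obtain ⟨g, hgK, d', -, hg⟩ := hM j s
  have hg0 : g.1.1 *ᵥ Φ.v 0 = Φ.v 0 := by
    rw [hg, h0j, zero_smul, add_zero, mul_zero, herm_smul_right, Φ.vg hF, mul_zero, sub_zero,
      zero_smul, add_zero]
  have hgg' : g.1.1 *ᵥ Φ.g = Φ.g + c • Φ.v j := by
    rw [hg, Φ.gv, zero_smul, add_zero, mul_zero, herm_smul_right, hgg, mul_one, zero_sub, hs]
  have h1 := hB.conj g
  rw [hg0, hgg'] at h1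
  have hj0' : hermForm n F q (Φ.v j) (Φ.v 0) = 0 := herm_eq_zero_symm hF h0j
  have h2 := h1.mul hF (hB.inv hF (Φ.iso hm 0) (Φ.gv 0) hd) (Φ.iso hm 0)
    (by rw [herm_add_left, herm_smul_left, Φ.gv, hj0', mul_zero, add_zero])
    (by rw [herm_neg_left, Φ.gv, neg_zero])
  rw [show Φ.g + c • Φ.v j + -Φ.g = c • Φ.v j by abel, herm_neg_left, herm_add_right _ _ _ hF, hgg,
    herm_smul_right, Φ.gv, mul_zero, add_zero] at h2
  refine EK.of_one hF (Φ.iso hm 0) (by rw [herm_smul_left, hj0', mul_zero]) hfull ?_ h2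
    (mul_mem (mul_mem (mul_mem hgK hBK) (inv_mem hgK)) (inv_mem hBK))
  rw [herm_smul_left, herm_smul_right, Φ.iso hm j, mul_zero, mul_zero, add_zero]
  rw [hgg] at hd
  simp only [add_pow_q hF, sub_pow_q hF, neg_pow_q hF, one_pow, pow_q_q hF]
  linear_combination 2 * hd

end Cfsg.Agent.Lib.PSUTwoGen49
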